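import Mathlib

/-!
# Closed points of fibres and residue field extensions
-/

set_option autoImplicit false

universe u

open CategoryTheory CategoryTheory.Limits AlgebraicGeometry

namespace Groth.Agent.FibreClosedPt

theorem isClosed_asFiber_of_isIntegral {X S : Scheme.{u}} (f : X ⟶ S) (x : X)
    (h : (f.residueFieldMap x).hom.IsIntegral) :
    IsClosed ({f.asFiber x} : Set ↑(f.fiber (f x))) := by
  let F := f.fiber (f x)
  haveI : IsIntegralHom (f.asFiberHom x ≫ f.fiberToSpecResidueField (f x)) := by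
    rw [Scheme.Hom.asFiberHom_fiberToSpecResidueField, IsIntegralHom.SpecMap_iff]
    exact h
  rw [← isOpen_compl_iff, isOpen_iff_forall_mem_open]
  intro z hz
  obtain ⟨_, ⟨(V : F.Opens), hV, rfl⟩, hzV, -⟩ :=
    F.isBasis_affineOpens.exists_subset_of_mem_open (Set.mem_univ z) isOpen_univ
  by_cases hx : f.asFiber x ∈ V
  · haveI : IsAffine V.toScheme := hV
    have hr : Set.range (f.asFiberHom x) ⊆ Set.range V.ι := by
      rw [Scheme.Hom.range_asFiberHom, Scheme.Opens.range_ι]
      exact Set.singleton_subset_iff.mpr hx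
    let a := IsOpenImmersion.lift V.ι (f.asFiberHom x) hr
    have ha : a ≫ V.ι = f.asFiberHom x := IsOpenImmersion.lift_fac _ _ _
    haveI : IsIntegralHom (a ≫ V.ι ≫ f.fiberToSpecResidueField (f x)) := by
      rw [← Category.assoc, ha]; infer_instance
    haveI : UniversallyClosed a :=
      UniversallyClosed.of_comp_of_isSeparated a (V.ι ≫ f.fiberToSpecResidueField (f x))
    refine ⟨V.ι '' (Set.range a)ᶜ, ?_,
      V.ι.isOpenEmbedding.isOpenMap _ a.isClosedMap.isClosed_range.isOpen_compl, ?_⟩
    · rintro _ ⟨v, hv, rfl⟩ (hvx : V.ι v = f.asFiber x)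
      refine hv ⟨IsLocalRing.closedPoint (X.residueField x), V.ι.isOpenEmbedding.injective ?_⟩
      show (a ≫ V.ι) _ = _
      rw [ha, Scheme.Hom.asFiberHom_apply, hvx]
    · refine ⟨⟨z, hzV⟩, ?_, rfl⟩
      rintro ⟨p, hp⟩
      refine hz ?_
      show z = f.asFiber x
      rw [← f.asFiberHom_apply x p, ← ha]
      exact (congrArg V.ι hp).symm
  · exact ⟨V, fun v hv (e : v = f.asFiber x) => hx (e ▸ hv), V.2, hzV⟩

theorem isClosed_singleton_of_isClosed_asFiber {X S : Scheme.{u}} (f : X ⟶ S) (x : X)
    (h : IsClosed ({f.asFiber x} : Set ↑(f.fiber (f x)))) (hs : IsClosed ({f x} : Set ↑S)) :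
    IsClosed ({x} : Set ↑X) := by
  have hr : IsClosed (Set.range (f.fiberι (f x))) := by
    rw [Scheme.Hom.range_fiberι]
    exact hs.preimage f.continuous
  have h1 := (Topology.IsClosedEmbedding.mk (f.fiberι (f x)).isEmbedding hr).isClosedMap _ h
  simpa using h1

theorem finite_of_isClosed_asFiber {X S : Scheme.{u}} (f : X ⟶ S) [LocallyOfFiniteType f] (x : X)
    (h : IsClosed ({f.asFiber x} : Set ↑(f.fiber (f x)))) : (f.residueFieldMap x).hom.Finite := by
  haveI : IsClosedImmersion (f.asFiberHom x) :=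
    .of_isPreimmersion _ (by rw [Scheme.Hom.range_asFiberHom]; exact h)
  haveI : LocallyOfFiniteType (f.fiberToSpecResidueField (f x)) :=
    MorphismProperty.pullback_snd _ _ ‹LocallyOfFiniteType f›
  have h2 : LocallyOfFiniteType (f.asFiberHom x ≫ f.fiberToSpecResidueField (f x)) := inferInstance
  rw [Scheme.Hom.asFiberHom_fiberToSpecResidueField, HasRingHomProperty.Spec_iff (P := @LocallyOfFiniteType)] at h2
  algebraize [(f.residueFieldMap x).hom]
  exact finite_of_finite_type_of_isJacobsonRing (S.residueField (f x)) (X.residueField x)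

end Groth.Agent.FibreClosedPt
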